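import Groth.Agent.HTopCov.AlmostBlowUp
import Groth.Agent.FrobIter.Basic
import Mathlib.AlgebraicGeometry.Noetherian
import Mathlib.AlgebraicGeometry.Morphisms.QuasiFinite
import Mathlib.AlgebraicGeometry.Morphisms.Immersion
import Mathlib.RingTheory.Ideal.IdempotentFG

/-!
# Contracting correspondences: ideal sheaves on the fixed point scheme
-/

universe u

open CategoryTheory CategoryTheory.Limits AlgebraicGeometry

namespace Groth.Agent.LVContr

variable {X Y : Scheme.{u}}

/-- It suffices to compare ideal sheaves on affine opens mapping into affine opens. -/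
theorem le_of_forall_small (f : X ⟶ Y) {I J : X.IdealSheafData}
    (h : ∀ (V : X.affineOpens) (U : Y.affineOpens), V.1 ≤ f ⁻¹ᵁ U.1 → I.ideal V ≤ J.ideal V) :
    I ≤ J := by
  refine Scheme.IdealSheafData.le_of_iSup_eq_top
    (fun i : {V : X.affineOpens // ∃ U : Y.affineOpens, V.1 ≤ f ⁻¹ᵁ U.1} => i.1) ?_
    fun i => h i.1 i.2.choose i.2.choose_spec
  rw [eq_top_iff]
  intro x _
  obtain ⟨U, hU, hxU, -⟩ := exists_isAffineOpen_mem_and_subset (TopologicalSpace.Opens.mem_top (f x))
  obtain ⟨V, hV, hxV, hle⟩ := exists_isAffineOpen_mem_and_subset (show x ∈ f ⁻¹ᵁ U from hxU)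
  exact TopologicalSpace.Opens.mem_iSup.2 ⟨⟨⟨V, hV⟩, ⟨U, hU⟩, hle⟩, hxV⟩

theorem comap_pow (f : X ⟶ Y) (I : Y.IdealSheafData) (n : ℕ) : (I ^ n).comap f = I.comap f ^ n := by
  refine le_antisymm (le_of_forall_small f fun V U h => ?_) (le_of_forall_small f fun V U h => ?_) <;>
  · rw [HTopCov.ideal_comap_appLE f _ U V h, Scheme.IdealSheafData.ideal_pow,
      Scheme.IdealSheafData.ideal_pow, Pi.pow_apply, Pi.pow_apply,
      HTopCov.ideal_comap_appLE f _ U V h, Ideal.map_pow]

theorem ideal_comap_ι (W : X.Opens) (I : X.IdealSheafData) (V : (W : Scheme).affineOpens) :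
    (I.comap W.ι).ideal V =
      (I.ideal ⟨W.ι ''ᵁ V.1, V.2.image_of_isOpenImmersion W.ι⟩).comap (W.ι.appIso V.1).inv.hom :=
  Scheme.IdealSheafData.ideal_comap_of_isOpenImmersion _ _ _

theorem radical_comap_ι (W : X.Opens) (I : X.IdealSheafData) :
    (I.comap W.ι).radical = I.radical.comap W.ι := by
  ext V : 2
  simp only [Scheme.IdealSheafData.radical_ideal, ideal_comap_ι, Ideal.comap_radical]

/-- An ideal sheaf with `M ^ n = M ^ (n + 1)` on a locally Noetherian scheme has a clopen zero locus. -/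
theorem isClopen_support [IsLocallyNoetherian X] (M : X.IdealSheafData) (n : ℕ)
    (h : M ^ n ≤ M ^ (n + 1)) : IsClopen (M.support : Set X) := by
  refine ⟨M.support.isClosed, isOpen_iff_mem_nhds.2 fun x hx => ?_⟩
  obtain ⟨U, hU, hxU, -⟩ := exists_isAffineOpen_mem_and_subset (TopologicalSpace.Opens.mem_top x)
  lift U to X.affineOpens using hU
  haveI : IsNoetherianRing Γ(X, U.1) := IsLocallyNoetherian.component_noetherian U
  have hU' : M.ideal U ^ n = M.ideal U ^ (n + 1) :=
    le_antisymm (h U) (Ideal.pow_le_pow_right n.le_succ)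
  have hn : n ≠ 0 := by
    rintro rfl
    rw [pow_zero, zero_add, pow_one, Ideal.one_eq_top] at hU'
    have := (Scheme.IdealSheafData.mem_support_iff_of_mem hxU).1 hx
    rw [← hU'] at this
    exact (Scheme.mem_zeroLocus_iff X _ _).1 this (1 : Γ(X, U.1)) trivial (by simpa using hxU)
  have hstab : ∀ j, M.ideal U ^ (n + j) = M.ideal U ^ n := by
    intro j
    induction j with
    | zero => rfl
    | succ j ih => rw [← add_assoc, pow_succ, ih, ← pow_succ, ← hU']
  obtain ⟨e, he, hIe⟩ := (Ideal.isIdempotentElem_iff_of_fg (M.ideal U ^ n) (IsNoetherian.noetherian _)).1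
    (show _ * _ = _ by rw [← pow_add, hstab])
  have key : ∀ y ∈ U.1, (y ∈ (M.support : Set X) ↔ y ∈ X.basicOpen (1 - e)) := by
    intro y hy
    rw [← Scheme.IdealSheafData.support_pow M n hn, SetLike.mem_coe,
      Scheme.IdealSheafData.mem_support_iff_of_mem hy, Scheme.IdealSheafData.ideal_pow, Pi.pow_apply, hIe,
      Ideal.submodule_span_eq, Scheme.mem_zeroLocus_iff]
    have h0 : ∀ z, z ∈ X.basicOpen e → z ∉ X.basicOpen (1 - e) := fun z hz hz' => by
      have hzz : z ∈ X.basicOpen (e * (1 - e)) := by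
        rw [Scheme.basicOpen_mul]
        exact ⟨hz, hz'⟩
      rw [mul_sub, mul_one, he.eq, sub_self, Scheme.basicOpen_zero] at hzz
      exact hzz
    constructor
    · intro hz
      have hu : IsUnit (X.presheaf.germ U.1 y hy (e + (1 - e))) := by
        rw [show e + (1 - e) = 1 by ring, map_one]; exact isUnit_one
      rw [map_add] at hu
      rcases IsLocalRing.isUnit_or_isUnit_of_isUnit_add hu with h1 | h1
      · exact absurd ((X.mem_basicOpen _ _ hy).2 h1) (hz e (Ideal.mem_span_singleton_self e))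
      · exact (X.mem_basicOpen _ _ hy).2 h1
    · intro hz a ha haz
      obtain ⟨c, rfl⟩ := Ideal.mem_span_singleton'.1 ha
      rw [Scheme.basicOpen_mul] at haz
      exact h0 y haz.2 hz
  refine Filter.mem_of_superset ((X.basicOpen (1 - e)).2.mem_nhds ((key x hxU).1 hx)) fun y hy => ?_
  exact (key y (X.basicOpen_le _ hy)).2 hy

end Groth.Agent.LVContr
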