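import Groth.Agent.LVContr.Basic
import Mathlib.AlgebraicGeometry.Morphisms.Finite

/-!
# Fixed points of contracting correspondences
-/

universe u

open CategoryTheory CategoryTheory.Limits AlgebraicGeometry

namespace Groth.Agent.LVContr

/-- A point lying on the diagonal under `(a, b)` has equal images. -/
theorem eq_of_mem_diagonal {C X S : Scheme.{u}} (pX : X ⟶ S) (a b : C ⟶ X) (h : a ≫ pX = b ≫ pX) (y : C)
    (hy : (pullback.lift a b h).base y ∈ Set.range (pullback.diagonal pX).base) : a.base y = b.base y := by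
  obtain ⟨z, hz⟩ := hy
  have h1 := congrArg (pullback.fst pX pX).base hz
  have h2 := congrArg (pullback.snd pX pX).base hz
  simp only [← TopCat.comp_app, ← Scheme.Hom.comp_base, pullback.lift_fst, pullback.lift_snd,
    pullback.diagonal_fst, pullback.diagonal_snd] at h1 h2
  exact h1.symm.trans h2

/-- The zero locus on the scheme of fixed points of an ideal near which the correspondence contracts is clopen. -/
theorem isClopen_support_fix {C X Fx S : Scheme.{u}} (pX : X ⟶ S) [IsLocallyNoetherian C]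
    (c₁ c₂ : C ⟶ X) (hc : c₁ ≫ pX = c₂ ≫ pX)
    (i : Fx ⟶ C) (δ : Fx ⟶ X) (hF : IsPullback i δ (pullback.lift c₁ c₂ hc) (pullback.diagonal pX))
    (I : X.IdealSheafData) (W : C.Opens) (hW : Set.range i.base ⊆ (W : Set C))
    (k₀ : ℕ) (hpow : I.comap (W.ι ≫ c₁) ^ k₀ ≤ I.comap (W.ι ≫ c₂) ^ (k₀ + 1)) :
    IsClopen (δ.base ⁻¹' (I.support : Set X)) := by
  have : IsImmersion i := MorphismProperty.of_isPullback hF.flip inferInstance
  have : IsLocallyNoetherian Fx := LocallyOfFiniteType.isLocallyNoetherian i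
  have hr : Set.range i.base ⊆ Set.range W.ι.base := by rwa [Scheme.Opens.range_ι]
  set i' := IsOpenImmersion.lift W.ι i hr
  have hi' : i' ≫ W.ι = i := IsOpenImmersion.lift_fac _ _ _
  have h1 : i' ≫ W.ι ≫ c₁ = δ := by
    have := hF.w =≫ pullback.fst pX pX
    rw [reassoc_of% hi']
    simp only [Category.assoc] at this
    erw [pullback.lift_fst, pullback.diagonal_fst, Category.comp_id] at this
    exact this
  have h2 : i' ≫ W.ι ≫ c₂ = δ := by
    have := hF.w =≫ pullback.snd pX pX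
    rw [reassoc_of% hi']
    simp only [Category.assoc] at this
    erw [pullback.lift_snd, pullback.diagonal_snd, Category.comp_id] at this
    exact this
  have h : (I.comap δ) ^ k₀ ≤ (I.comap δ) ^ (k₀ + 1) := by
    conv_lhs => rw [← h1]
    conv_rhs => rw [← h2]
    rw [Scheme.IdealSheafData.comap_comp I i' (W.ι ≫ c₁), Scheme.IdealSheafData.comap_comp I i' (W.ι ≫ c₂),
      ← comap_pow i', ← comap_pow i']
    exact Scheme.IdealSheafData.comap_mono i' hpow
  have := isClopen_support _ k₀ h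
  rwa [Scheme.IdealSheafData.support_comap, TopologicalSpace.Closeds.coe_preimage] at this

/-- A twisted correspondence contracts near every closed point in a neighbourhood of the fixed points. -/
theorem exists_contracting {C C₀ X S : Scheme.{u}}
    (p : ℕ) [Fact p.Prime] (k₀ : Type u) [Field k₀] [Fintype k₀] [CharP k₀ p] (e : ℕ)
    (hq : Fintype.card k₀ = p ^ e) (K : Type u) [Field K] [Algebra k₀ K] [IsAlgClosure k₀ K]
    (f₀ : C₀ ⟶ Spec (CommRingCat.of k₀)) [FrobSch.IsCharP C₀ p]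
    (πC₀ : C ⟶ C₀) (πK : C ⟶ Spec (CommRingCat.of K))
    (hC : IsPullback πC₀ πK f₀ (Spec.map (CommRingCat.ofHom (algebraMap k₀ K))))
    (n : ℕ) (Fr : C ⟶ C)
    (hFr₀ : Fr ≫ πC₀ = πC₀ ≫ End.asHom (End.of (FrobSch.frob C₀ p) ^ (e * n)))
    (hFrK : Fr ≫ πK = πK)
    (pX : X ⟶ S) (c₁ c₂ : C ⟶ X) [LocallyQuasiFinite c₂]
    (hcomm : (Fr ≫ c₁) ≫ pX = c₂ ≫ pX) (d : ℕ) (hn : d < p ^ (e * n))
    (x : X) (hx : IsClosed ({x} : Set X))
    (hd : ((Scheme.IdealSheafData.vanishingIdeal ⟨{x}, hx⟩).comap c₂).radical ^ d ≤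
        (Scheme.IdealSheafData.vanishingIdeal ⟨{x}, hx⟩).comap c₂) :
    ∃ W : C.Opens,
      (pullback.lift (Fr ≫ c₁) c₂ hcomm).base ⁻¹' Set.range (pullback.diagonal pX).base ⊆ (W : Set C) ∧
      (Scheme.IdealSheafData.vanishingIdeal ⟨{x}, hx⟩).comap (W.ι ≫ Fr ≫ c₁) ≤
        (Scheme.IdealSheafData.vanishingIdeal ⟨{x}, hx⟩).comap (W.ι ≫ c₂) ∧
      ∃ k : ℕ, (Scheme.IdealSheafData.vanishingIdeal ⟨{x}, hx⟩).comap (W.ι ≫ Fr ≫ c₁) ^ k ≤
        (Scheme.IdealSheafData.vanishingIdeal ⟨{x}, hx⟩).comap (W.ι ≫ c₂) ^ (k + 1) := by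
  have : FrobSch.IsCharP C p := FrobSch.IsCharP.of_hom πC₀ p
  let W : C.Opens := ⟨(c₂.base ⁻¹' {x} \ (Fr ≫ c₁).base ⁻¹' {x})ᶜ, by
    have hcl : IsClosed (c₂.base ⁻¹' {x}) := hx.preimage c₂.continuous
    have : DiscreteTopology ↥(c₂.base ⁻¹' {x}) := (c₂.isDiscrete_preimage_singleton x).to_subtype
    have h2 := hcl.isClosedEmbedding_subtypeVal.isClosedMap
      (Subtype.val ⁻¹' (c₂.base ⁻¹' {x} \ (Fr ≫ c₁).base ⁻¹' {x})) (isClosed_discrete _)
    rw [Subtype.image_preimage_coe, Set.inter_eq_right.2 Set.sdiff_subset] at h2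
    exact h2.isOpen_compl⟩
  refine ⟨W, fun y hy hy' => hy'.2 ?_, ?_⟩
  · exact (eq_of_mem_diagonal pX _ _ hcomm y hy).trans hy'.1
  have : FrobSch.IsCharP (W : Scheme) p := FrobSch.IsCharP.of_hom W.ι p
  obtain ⟨τ, hτ, -⟩ := FrobIter.exists_twist k₀ e hq K f₀ πC₀ πK hC n Fr hFr₀ hFrK
  set I := Scheme.IdealSheafData.vanishingIdeal ⟨{x}, hx⟩
  have hI : (I.support : Set X) = {x} := by
    rw [Scheme.IdealSheafData.coe_support_vanishingIdeal]
    rfl
  have e1 : I.comap (W.ι ≫ Fr ≫ c₁) = (I.comap (W.ι ≫ τ ≫ c₁)).comap (FrobIter.iter p (W : Scheme) (e * n)) := by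
    rw [hτ, Category.assoc, ← reassoc_of% (FrobIter.iter_comp W.ι (e * n)),
      Scheme.IdealSheafData.comap_comp]
  have hd' : (I.comap (W.ι ≫ c₂)).radical ^ d ≤ I.comap (W.ι ≫ c₂) := by
    rw [Scheme.IdealSheafData.comap_comp, radical_comap_ι, ← comap_pow]
    exact Scheme.IdealSheafData.comap_mono _ hd
  rw [e1]
  have hs : ((I.comap (W.ι ≫ c₂)).support : Set W) ⊆ (I.comap (W.ι ≫ τ ≫ c₁)).support := by
    simp only [Scheme.IdealSheafData.support_comap, TopologicalSpace.Closeds.coe_preimage, hI]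
    intro y hy
    have h1 : y.1 ∈ (Fr ≫ c₁).base ⁻¹' {x} := by
      by_contra hne
      exact y.2 ⟨hy, hne⟩
    rw [hτ, Category.assoc, Set.mem_preimage, Scheme.Hom.comp_base, TopCat.comp_app, FrobIter.iter_apply] at h1
    exact h1
  exact ⟨(FrobIter.comap_iter_estimate _ _ hs hd' hn).1, d, (FrobIter.comap_iter_estimate _ _ hs hd' hn).2⟩

end Groth.Agent.LVContr
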